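import Groth.Prelude.Def_NonAbH2
import Groth.Prelude.Def_TwC
import Groth.Agent.FpqcDescent.Affine
import Groth.Agent.GrpArtCC.Basic
import Groth.Agent.GrpField.QAAffine
import Groth.Agent.GoodQuot.Basic
import Groth.Agent.Chev.Normalise
import Groth.Agent.SepIsog.Basic
import Mathlib.AlgebraicGeometry.Morphisms.LocalFlatDescent
import Mathlib.AlgebraicGeometry.Morphisms.QuasiFinite
import Mathlib.RingTheory.Unramified.LocalStructure

/-!
# Extensions of connected groups by constant groups without torsion (SGA 7 VIII 5)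
-/

set_option autoImplicit false
set_option backward.isDefEq.respectTransparency false
set_option backward.isDefEq.respectTransparency.types false

universe u

open CategoryTheory CategoryTheory.Limits MonoidalCategory CartesianMonoidalCategory MonObj AlgebraicGeometry
open Groth.Agent.GrpComp

namespace Groth.Agent.ConstExt

/-- étale morphisms are locally quasi-finite -/
theorem locallyQuasiFinite_of_etale {X Y : Scheme.{u}} (f : X ⟶ Y) [hf : Etale f] : LocallyQuasiFinite f := by
  rw [HasRingHomProperty.iff_appLE (P := @LocallyQuasiFinite)]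
  intro U V e
  have h := HasRingHomProperty.appLE @Etale f hf U V e
  algebraize [(f.appLE U V e).hom]
  change Algebra.QuasiFinite Γ(Y, U) Γ(X, V)
  infer_instance

variable {k : Type u} [Field k] {Z : Type u} [Group Z]
  {P E G : Over (Spec (CommRingCat.of k))} [GrpObj P] [GrpObj E] [GrpObj G]
  (eG : G ≅ TwC.const (Spec (CommRingCat.of k)) Z) (hG : TwC.IsConstGrp Z G eG)
  (u : G ⟶ E) (v : E ⟶ P)

theorem etale_hom_of_iso (e : G ≅ TwC.const (Spec (CommRingCat.of k)) Z) : Etale G.hom := by
  have : IsIso e.hom.left := Functor.map_isIso (Over.forget _) e.hom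
  have h : Etale (TwC.const (Spec (CommRingCat.of k)) Z).hom :=
    IsZariskiLocalAtSource.sigmaDesc (P := @Etale) fun _ => inferInstanceAs (Etale (𝟙 _))
  rw [← Over.w e.hom]
  exact MorphismProperty.comp_mem _ _ _ inferInstance h

theorem surjective_hom (X : Over (Spec (CommRingCat.of k))) [GrpObj X] : Surjective X.hom := by
  refine ⟨fun x ↦ ⟨η[X].left x, ?_⟩⟩
  rw [← Scheme.Hom.comp_apply, Over.w η[X]]
  rfl

variable {u v}

omit [GrpObj P] in
theorem descends_v (Q : MorphismProperty Scheme.{u}) [Q.IsStableUnderBaseChange] [IsZariskiLocalAtTarget Q]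
    [Q.DescendsAlong (@Surjective ⊓ @Flat ⊓ @QuasiCompact)]
    (hpb : IsPullback (fst E G) ((E ◁ u) ≫ μ[E]) v v)
    (hloc : NonAbH1.IsLocallyTrivialFor Scheme.fppfPrecoverage (Over.mk v.left : Over P.left))
    (hQ : Q G.hom) : Q v.left := by
  obtain ⟨R, hR, hs⟩ := hloc
  refine FpqcDescent.of_fpqcPrecoverage Q v.left (Scheme.fppfPrecoverage_le_fpqcPrecoverage _ hR)
    fun S' f hf => ?_
  obtain ⟨s, rfl⟩ := hs f hf
  have h0 : Q (fst E G).left := Q.pullback_fst _ _ hQ
  have hp := (hpb.map (Over.forget _)).flip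
  simp only [Over.forget_map] at hp
  rw [← hp.isoPullback_hom_snd, Q.cancel_left_of_respectsIso] at h0
  change Q (pullback.snd v.left (s ≫ v.left))
  refine (Q.cancel_left_of_respectsIso (pullbackLeftPullbackSndIso v.left v.left s).hom _).mp ?_
  rw [pullbackLeftPullbackSndIso_hom_snd]
  exact Q.pullback_snd _ _ h0

theorem exists_of_comp_eq_one [IsMonHom v] (hpb : IsPullback (fst E G) ((E ◁ u) ≫ μ[E]) v v)
    {T : Over (Spec (CommRingCat.of k))} (x : T ⟶ E) (hx : x ≫ v = 1) : ∃ g : T ⟶ G, g ≫ u = x := by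
  obtain ⟨l, hl₁, hl₂⟩ := hpb.exists_lift (1 : T ⟶ E) x (by rw [MonObj.one_comp, hx])
  refine ⟨l ≫ snd E G, ?_⟩
  have hl : l = lift 1 (l ≫ snd E G) := by
    apply CartesianMonoidalCategory.hom_ext <;> simp [hl₁]
  rw [hl, ← Category.assoc, lift_whiskerLeft] at hl₂
  rw [← hl₂, ← Hom.mul_def, _root_.one_mul]

omit [GrpObj P] in
theorem mono_u (hpb : IsPullback (fst E G) ((E ◁ u) ≫ μ[E]) v v) : Mono u := by
  refine ⟨fun {T} a b h => ?_⟩
  have : lift (1 : T ⟶ E) a = lift 1 b := by
    refine hpb.hom_ext ?_ ?_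
    · simp
    · simp only [← Category.assoc, lift_whiskerLeft, h]
  simpa using this =≫ snd E G

/-- the point of the base -/
noncomputable abbrev cp : ↥(𝟙_ (Over (Spec (CommRingCat.of k)))).left := IsLocalRing.closedPoint k

theorem exists_pt_eq (x : G.left) :
    ∃ m : Z, (TwC.pt (Spec (CommRingCat.of k)) Z m ≫ eG.inv).left cp = x := by
  obtain ⟨m, y, hy⟩ := (sigmaOpenCover (fun _ : Z => Spec (CommRingCat.of k))).exists_eq (eG.hom.left x)
  refine ⟨m, ?_⟩
  have hy' : (Sigma.ι (fun _ : Z => Spec (CommRingCat.of k)) m) y = eG.hom.left x := hy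
  rw [Over.comp_left, Scheme.Hom.comp_apply]
  change eG.inv.left ((Sigma.ι (fun _ : Z => Spec (CommRingCat.of k)) m) cp) = x
  rw [Subsingleton.elim (α := PrimeSpectrum k) cp y, hy', ← Scheme.Hom.comp_apply, ← Over.comp_left,
    eG.hom_inv_id]
  rfl

theorem q_inj {m n : Z} (h : TwC.pt (Spec (CommRingCat.of k)) Z m ≫ eG.inv =
    TwC.pt (Spec (CommRingCat.of k)) Z n ≫ eG.inv) : m = n := by
  have h1 := congrArg (fun f : 𝟙_ (Over (Spec (CommRingCat.of k))) ⟶ TwC.const (Spec (CommRingCat.of k)) Z => f.left cp)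
    ((cancel_mono eG.inv).1 h)
  simp only [TwC.pt, Over.homMk_left] at h1
  exact congrArg Sigma.fst ((sigmaι_eq_iff _ _ _ _ _).mp h1)

include hG in
theorem q_one : TwC.pt (Spec (CommRingCat.of k)) Z 1 ≫ eG.inv = 1 := by
  have := hG 1 1
  rw [_root_.one_mul] at this
  exact mul_eq_left.1 this

variable [LocallyOfFiniteType P.hom]

include eG hG in
/-- a morphism to the kernel landing in the identity component is trivial -/
theorem eq_one_of_subset (hZ : ∀ z : Z, IsOfFinOrder z → z = 1) [IsMonHom u]
    [LocallyQuasiFinite v.left] [IsMonHom v] [Mono u] (huv : u ≫ v = 1)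
    {T : Over (Spec (CommRingCat.of k))} (g : T ⟶ G)
    (hg : Set.range (g ≫ u).left ⊆ connectedComponent (ept E)) : g = 1 := by
  let q : Z → (𝟙_ (Over (Spec (CommRingCat.of k))) ⟶ G) := fun m =>
    TwC.pt (Spec (CommRingCat.of k)) Z m ≫ eG.inv
  let qh : Z →* (𝟙_ (Over (Spec (CommRingCat.of k))) ⟶ G) := MonoidHom.mk' q fun m n => (hG m n).symm
  let M : Subgroup Z :=
    { carrier := {m | Set.range (q m ≫ u).left ⊆ connectedComponent (ept E)}
      one_mem' := by
        intro x hx
        obtain ⟨t, rfl⟩ := hx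
        rw [show q 1 = 1 from q_one eG hG, MonObj.one_comp, one_apply]
        exact mem_connectedComponent
      inv_mem' := by
        intro m hm
        have := GrpArtCC.range_div_subset (1 : 𝟙_ (Over (Spec (CommRingCat.of k))) ⟶ E) (q m ≫ u) (by
          rintro _ ⟨t, rfl⟩
          rw [one_apply]
          exact mem_connectedComponent) hm
        rw [_root_.one_mul, ← GrpObj.inv_comp] at this
        change Set.range (qh m⁻¹ ≫ u).left ⊆ _
        rw [map_inv]
        exact this
      mul_mem' := by
        intro m n hm hn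
        have hn' := GrpArtCC.range_div_subset (1 : 𝟙_ (Over (Spec (CommRingCat.of k))) ⟶ E) (q n ≫ u) (by
          rintro _ ⟨t, rfl⟩
          rw [one_apply]
          exact mem_connectedComponent) hn
        rw [_root_.one_mul] at hn'
        have := GrpArtCC.range_div_subset _ _ hm hn'
        rw [inv_inv, ← MonObj.mul_comp] at this
        change Set.range (qh (m * n) ≫ u).left ⊆ _
        rw [map_mul]
        exact this }
  have : IsSeparated P.hom := GrpField.isSeparated_hom P
  let F : Set E.left := connectedComponent (ept E) ∩ v.left ⁻¹' {ept P}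
  have hF : F.Finite := by
    refine IsCompact.finite ?_ ((v.left.isDiscrete_preimage_singleton _).mono Set.inter_subset_right)
    exact (GrpArtCC.isCompact_connectedComponent _).inter_right
      ((SepIsog.isClosed_ept).preimage v.left.continuous)
  have hmem : ∀ m ∈ M, (q m ≫ u).left cp ∈ F := by
    refine fun m hm => ⟨hm ⟨cp, rfl⟩, ?_⟩
    change v.left ((q m ≫ u).left cp) = ept P
    rw [← Scheme.Hom.comp_apply, ← Over.comp_left, Category.assoc, huv, MonObj.comp_one, one_apply]
  have : Finite M := by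
    have := hF.to_subtype
    refine Finite.of_injective (fun m : M => (⟨_, hmem m.1 m.2⟩ : F)) fun a b h => ?_
    have h' : (q a ≫ u).left cp = (q b ≫ u).left cp := congrArg Subtype.val h
    refine Subtype.ext (q_inj eG ((cancel_mono u).1 (Over.OverMorphism.ext ?_)))
    exact GoodQuot.section_eq_of_apply_eq (p := E.hom) _ _ (Over.w (q a ≫ u)) (Over.w (q b ≫ u)) _ h'
  have hM : ∀ m ∈ M, m = 1 := fun m hm =>
    hZ m (M.subtype.isOfFinOrder (isOfFinOrder_of_finite (⟨m, hm⟩ : M)))
  have hr : Set.range g.left ⊆ Set.range (q 1).left := by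
    rintro _ ⟨t, rfl⟩
    obtain ⟨m, hm⟩ := exists_pt_eq eG (g.left t)
    have hmM : m ∈ M := by
      rintro _ ⟨s, rfl⟩
      rw [Subsingleton.elim (α := PrimeSpectrum k) s cp, Over.comp_left, Scheme.Hom.comp_apply,
        show (q m).left cp = g.left t from hm, ← Scheme.Hom.comp_apply, ← Over.comp_left]
      exact hg ⟨t, rfl⟩
    exact ⟨cp, by rw [← hM m hmM]; exact hm⟩
  have : IsIso eG.inv.left := Functor.map_isIso (Over.forget _) eG.inv
  have : IsOpenImmersion (q 1).left :=
    inferInstanceAs (IsOpenImmersion (Sigma.ι (fun _ : Z => Spec (CommRingCat.of k)) 1 ≫ eG.inv.left))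
  obtain ⟨l, hl⟩ := Chev.exists_lift_open g (q 1) hr
  rw [← hl, show q 1 = 1 from q_one eG hG, MonObj.comp_one]

include eG hG in
/-- extensions of a connected group by a torsion-free constant group are rigid and split -/
theorem splits (hZ : ∀ z : Z, IsOfFinOrder z → z = 1) [ConnectedSpace P.left]
    (hex : NonAbH1.IsExactSeq Scheme.fppfPrecoverage u v) :
    (∀ φ : E ≅ E, IsMonHom φ.hom → u ≫ φ.hom = u → φ.hom ≫ v = v → φ.hom = 𝟙 E) ∧
      ∃ s : P ⟶ E, IsMonHom s ∧ s ≫ v = 𝟙 P := by
  obtain ⟨_, _, huv, hpb, hloc⟩ := hex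
  have : Etale v.left := descends_v (@Etale) hpb hloc (etale_hom_of_iso eG)
  have : LocallyQuasiFinite v.left := locallyQuasiFinite_of_etale v.left
  have : Mono u := mono_u hpb
  have : LocallyOfFiniteType E.hom := by
    rw [← Over.w v]
    infer_instance
  obtain ⟨G₀, _, incl, _, hci, hfl, hr, -, -, -⟩ := exists_identity_subgroup E
  have := hci
  have := hfl
  have hmi : Mono incl := Over.mono_of_mono_left incl
  have hker : ∀ {T : Over (Spec (CommRingCat.of k))} (x : T ⟶ G₀), (x ≫ incl) ≫ v = 1 → x = 1 := by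
    intro T x hx
    obtain ⟨g, hg⟩ := exists_of_comp_eq_one hpb _ hx
    have := eq_one_of_subset eG hG hZ huv g (by
      rw [hg, ← hr, Over.comp_left]
      exact Set.range_comp_subset_range x.left incl.left)
    rw [this, MonObj.one_comp] at hg
    exact (cancel_mono incl).1 (by rw [← hg, MonObj.one_comp])
  let w : G₀ ⟶ P := incl ≫ v
  have : IsMonHom w := inferInstanceAs (IsMonHom (incl ≫ v))
  have : Mono w := ⟨fun {T} a b h => by
    refine mul_inv_eq_one.1 (hker (a * b⁻¹) ?_)
    rw [Category.assoc, MonObj.mul_comp, GrpObj.inv_comp]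
    exact mul_inv_eq_one.2 h⟩
  have : Mono w.left := inferInstanceAs (Mono ((Over.forget _).map w))
  have : IsLocallyNoetherian P.left := LocallyOfFiniteType.isLocallyNoetherian P.hom
  have : Flat w.left := inferInstanceAs (Flat (incl.left ≫ v.left))
  have : LocallyOfFiniteType w.left := inferInstanceAs (LocallyOfFiniteType (incl.left ≫ v.left))
  have : LocallyOfFinitePresentation w.left := inferInstance
  have : IsOpenImmersion w.left := IsOpenImmersion.of_flat_of_mono w.left
  have : ConnectedSpace G₀.left := by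
    have hne : Nonempty G₀.left := ⟨η[G₀].left (cp : ↥(𝟙_ (Over (Spec (CommRingCat.of k)))).left)⟩
    refine @ConnectedSpace.mk _ _ ⟨?_⟩ hne
    refine incl.left.isClosedEmbedding.isInducing.isPreconnected_image.1 ?_
    rw [Set.image_univ, hr]
    exact isPreconnected_connectedComponent
  have : CompactSpace P.left := ⟨by
    rw [← PreconnectedSpace.connectedComponent_eq_univ (ept P)]
    exact GrpArtCC.isCompact_connectedComponent _⟩
  have : QuasiCompact P.hom := (quasiCompact_iff_compactSpace P.hom).mpr inferInstance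
  have : Surjective w.left := by
    refine ⟨fun y => ?_⟩
    have := (Chev.range_eq_component w).2
    rw [PreconnectedSpace.connectedComponent_eq_univ] at this
    exact Set.eq_univ_iff_forall.1 this y
  have : IsIso w.left := (isIso_iff_isOpenImmersion_and_surjective _).mpr ⟨inferInstance, inferInstance⟩
  have : IsIso w := by
    have : IsIso ((Over.forget _).map w) := ‹IsIso w.left›
    exact isIso_of_reflects_iso w (Over.forget _)
  let s : P ⟶ E := inv w ≫ incl
  have : IsMonHom (inv w) := ⟨by rw [IsIso.comp_inv_eq, IsMonHom.one_hom], by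
    rw [IsIso.comp_inv_eq, Category.assoc, IsMonHom.mul_hom, ← Category.assoc, MonoidalCategory.tensorHom_comp_tensorHom]
    simp⟩
  have hs : s ≫ v = 𝟙 P := by rw [Category.assoc]; exact IsIso.inv_hom_id w
  refine ⟨fun φ _ hφu hφv => ?_, s, inferInstance, hs⟩
  have hφ₀ : incl ≫ φ.hom = incl := by
    let d : G₀ ⟶ E := (incl ≫ φ.hom) * incl⁻¹
    obtain ⟨g, hg⟩ := exists_of_comp_eq_one hpb d (by
      rw [MonObj.mul_comp, GrpObj.inv_comp, Category.assoc, hφv, mul_inv_cancel])
    have hd : Set.range d.left ⊆ connectedComponent (ept E) := by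
      refine (isConnected_range d.left.continuous).subset_connectedComponent
        ⟨η[G₀].left (cp : ↥(𝟙_ (Over (Spec (CommRingCat.of k)))).left), ?_⟩
      rw [← Scheme.Hom.comp_apply, ← Over.comp_left]
      have : η[G₀] ≫ d = 1 := by
        rw [MonObj.comp_mul, GrpObj.comp_inv, IsMonHom.one_hom_assoc, IsMonHom.one_hom, IsMonHom.one_hom]
        exact mul_inv_cancel _
      rw [this, one_apply]
    have := eq_one_of_subset eG hG hZ huv g (hg.symm ▸ hd)
    rw [this, MonObj.one_comp] at hg
    exact mul_inv_eq_one.1 hg.symm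
  obtain ⟨h, hh⟩ := exists_of_comp_eq_one hpb ((v ≫ s)⁻¹ * 𝟙 E) (by
    rw [MonObj.mul_comp, GrpObj.inv_comp, Category.assoc, hs, Category.comp_id, Category.id_comp,
      inv_mul_cancel])
  have key : 𝟙 E = (v ≫ s) * (h ≫ u) := by rw [hh, mul_inv_cancel_left]
  calc φ.hom = 𝟙 E ≫ φ.hom := (Category.id_comp _).symm
    _ = (v ≫ s ≫ φ.hom) * (h ≫ u ≫ φ.hom) := by
        rw [key, MonObj.mul_comp]
        simp only [Category.assoc]
    _ = (v ≫ s) * (h ≫ u) := by
        rw [hφu]
        congr 1
        simp only [s, Category.assoc, hφ₀]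
    _ = 𝟙 E := key.symm

end Groth.Agent.ConstExt
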