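import Groth.Agent.ConstExt.Basic

/-!
# Rigidity of commutative extensions by torsion-free constant groups (SGA 7 VIII 5)
-/

set_option autoImplicit false
set_option backward.isDefEq.respectTransparency false
set_option backward.isDefEq.respectTransparency.types false

universe u

open CategoryTheory CategoryTheory.Limits MonoidalCategory CartesianMonoidalCategory MonObj AlgebraicGeometry

namespace Groth.Agent.ConstExt

variable {k : Type u} [Field k] {Z : Type u} [CommGroup Z]
  {P E G : Over (Spec (CommRingCat.of k))} [GrpObj P] [GrpObj E] [GrpObj G]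
  (eG : G ≅ TwC.const (Spec (CommRingCat.of k)) Z) (hG : TwC.IsConstGrp Z G eG)

theorem isOpenImmersion_q (m : Z) :
    IsOpenImmersion (TwC.pt (Spec (CommRingCat.of k)) Z m ≫ eG.inv).left := by
  have : IsIso eG.inv.left := Functor.map_isIso (Over.forget _) eG.inv
  exact inferInstanceAs (IsOpenImmersion (Sigma.ι (fun _ : Z => Spec (CommRingCat.of k)) m ≫ eG.inv.left))

theorem range_q (m : Z) : Set.range (TwC.pt (Spec (CommRingCat.of k)) Z m ≫ eG.inv).left =
    {(TwC.pt (Spec (CommRingCat.of k)) Z m ≫ eG.inv).left cp} := by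
  ext x
  constructor
  · rintro ⟨t, rfl⟩
    rw [Subsingleton.elim (α := PrimeSpectrum k) t cp]
    rfl
  · rintro rfl
    exact ⟨cp, rfl⟩

/-- a field point landing on the point of index `m` is the point of index `m` -/
theorem eq_of_pt_eq {T : Over (Spec (CommRingCat.of k))} (a : T ⟶ G) (m : Z)
    (h : ∀ t : T.left, a.left t = (TwC.pt (Spec (CommRingCat.of k)) Z m ≫ eG.inv).left cp) :
    a = toUnit T ≫ TwC.pt (Spec (CommRingCat.of k)) Z m ≫ eG.inv := by
  have := isOpenImmersion_q eG m
  obtain ⟨l, hl⟩ := Chev.exists_lift_open a (TwC.pt (Spec (CommRingCat.of k)) Z m ≫ eG.inv) (by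
    rintro _ ⟨t, rfl⟩
    exact ⟨cp, (h t).symm⟩)
  rw [← hl, toUnit_unique l (toUnit T)]

include hG in
theorem mul_pt_eq {T : Over (Spec (CommRingCat.of k))} (a b : T ⟶ G) (t : T.left) (m n : Z)
    (ha : a.left t = (TwC.pt (Spec (CommRingCat.of k)) Z m ≫ eG.inv).left cp)
    (hb : b.left t = (TwC.pt (Spec (CommRingCat.of k)) Z n ≫ eG.inv).left cp) :
    (a * b).left t = (TwC.pt (Spec (CommRingCat.of k)) Z (m * n) ≫ eG.inv).left cp := by
  let T' : Over (Spec (CommRingCat.of k)) := Over.mk (T.left.fromSpecResidueField t ≫ T.hom)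
  let i : T' ⟶ T := Over.homMk (T.left.fromSpecResidueField t) rfl
  have hi : ∀ s : T'.left, i.left s = t := fun s => Scheme.fromSpecResidueField_apply t s
  obtain ⟨s⟩ : Nonempty T'.left := inferInstanceAs (Nonempty (Spec (T.left.residueField t)))
  have ha' := eq_of_pt_eq eG (i ≫ a) m fun s => by rw [Over.comp_left, Scheme.Hom.comp_apply, hi, ha]
  have hb' := eq_of_pt_eq eG (i ≫ b) n fun s => by rw [Over.comp_left, Scheme.Hom.comp_apply, hi, hb]
  have h : i ≫ (a * b) = toUnit T' ≫ TwC.pt (Spec (CommRingCat.of k)) Z (m * n) ≫ eG.inv := by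
    rw [MonObj.comp_mul, ha', hb', ← MonObj.comp_mul, hG m n]
  have h' := congrArg (fun f : T' ⟶ G => f.left s) h
  simp only [Over.comp_left, Scheme.Hom.comp_apply] at h'
  rw [hi] at h'
  rw [h', Over.comp_left, Scheme.Hom.comp_apply, Subsingleton.elim (α := PrimeSpectrum k) ((toUnit T').left s) cp]

include eG hG in
/-- commutative extensions of a group of finite type by a torsion-free constant group are rigid -/
theorem rigid (hZ : ∀ z : Z, IsOfFinOrder z → z = 1) [IsCommMonObj E] [CompactSpace P.left]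
    {u : G ⟶ E} {v : E ⟶ P} (hex : NonAbH1.IsExactSeq Scheme.fppfPrecoverage u v)
    (φ : E ≅ E) [IsMonHom φ.hom] (hφu : u ≫ φ.hom = u) (hφv : φ.hom ≫ v = v) : φ.hom = 𝟙 E := by
  obtain ⟨_, _, huv, hpb, hloc⟩ := hex
  have : Etale v.left := descends_v (@Etale) hpb hloc (etale_hom_of_iso eG)
  have : Surjective v.left := descends_v (@Surjective) hpb hloc (surjective_hom G)
  have : Mono u := mono_u hpb
  obtain ⟨g, hg⟩ := exists_of_comp_eq_one hpb (φ.hom * (𝟙 E)⁻¹) (by
    rw [MonObj.mul_comp, GrpObj.inv_comp, hφv, Category.id_comp, mul_inv_cancel])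
  have hhom : ∀ (T : Over (Spec (CommRingCat.of k))) (a b : T ⟶ E), (a * b) ≫ g = (a ≫ g) * (b ≫ g) := by
    intro T a b
    rw [← cancel_mono u, Category.assoc, MonObj.mul_comp _ _ u, Category.assoc, Category.assoc, hg]
    simp only [MonObj.comp_mul, GrpObj.comp_inv, Category.comp_id, MonObj.mul_comp]
    rw [mul_inv, _root_.mul_mul_mul_comm]
  have hug : u ≫ g = 1 := by
    rw [← cancel_mono u, Category.assoc, hg, MonObj.comp_mul, hφu, GrpObj.comp_inv, Category.comp_id,
      mul_inv_cancel, MonObj.one_comp]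
  let m' : E ⊗ G ⟶ E := (E ◁ u) ≫ μ[E]
  have hm' : m' = fst E G * (snd E G ≫ u) := by
    rw [Hom.mul_def]
    congr 1
  have hinv : m' ≫ g = fst E G ≫ g := by
    rw [hm', hhom, Category.assoc, hug, MonObj.comp_one, _root_.mul_one]
  have hconst : ∀ z w : E.left, v.left z = v.left w → g.left z = g.left w := by
    intro z w h
    have hp := hpb.map (Over.forget _)
    simp only [Over.forget_map] at hp
    obtain ⟨y, hy₁, hy₂⟩ := Scheme.Pullback.exists_preimage_pullback (f := v.left) (g := v.left) z w h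
    let y' := hp.isoPullback.inv y
    have e1 : (fst E G).left y' = z := by
      change (hp.isoPullback.inv ≫ (fst E G).left) y = z
      rw [hp.isoPullback_inv_fst, hy₁]
    have e2 : m'.left y' = w := by
      change (hp.isoPullback.inv ≫ m'.left) y = w
      rw [hp.isoPullback_inv_snd, hy₂]
    have := congrArg (fun f : E ⊗ G ⟶ G => f.left y') hinv
    simp only [Over.comp_left, Scheme.Hom.comp_apply, e1, e2] at this
    exact this.symm
  let q : Z → G.left := fun m => (TwC.pt (Spec (CommRingCat.of k)) Z m ≫ eG.inv).left cp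
  let M : Submonoid Z :=
    { carrier := {m | ∃ z, g.left z = q m}
      one_mem' := ⟨(η[E]).left cp, by
        have h1 : η[E] ≫ g = 1 := by
          have h := hhom _ (1 : 𝟙_ (Over (Spec (CommRingCat.of k))) ⟶ E) 1
          rw [_root_.one_mul] at h
          have h' := mul_eq_left.1 h.symm
          rwa [Hom.one_def, toUnit_unit, Category.id_comp] at h'
        have := congrArg (fun f : 𝟙_ (Over (Spec (CommRingCat.of k))) ⟶ G => f.left cp) h1
        simp only [Over.comp_left, Scheme.Hom.comp_apply] at this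
        rw [this, ← q_one eG hG]⟩
      mul_mem' := by
        rintro m n ⟨z, hz⟩ ⟨w, hw⟩
        obtain ⟨y, hy₁, hy₂⟩ := Scheme.Pullback.exists_preimage_pullback (f := E.hom) (g := E.hom) z w
          (Subsingleton.elim (α := PrimeSpectrum k) _ _)
        let y' : (E ⊗ E).left := y
        have e1 : (fst E E).left y' = z := hy₁
        have e2 : (snd E E).left y' = w := hy₂
        refine ⟨(fst E E * snd E E).left y', ?_⟩
        rw [← Scheme.Hom.comp_apply, ← Over.comp_left, hhom]
        exact mul_pt_eq eG hG _ _ y' m n (by rw [Over.comp_left, Scheme.Hom.comp_apply, e1]; exact hz)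
          (by rw [Over.comp_left, Scheme.Hom.comp_apply, e2]; exact hw) }
  have hfin : (M : Set Z).Finite := by
    let U : Z → Set P.left := fun m => v.left '' (g.left ⁻¹' Set.range (TwC.pt (Spec (CommRingCat.of k)) Z m ≫ eG.inv).left)
    have hU : ∀ m, IsOpen (U m) := fun m => by
      have := isOpenImmersion_q eG m
      exact v.left.isOpenMap _ ((TwC.pt (Spec (CommRingCat.of k)) Z m ≫ eG.inv).left.isOpenEmbedding.isOpen_range.preimage
        g.left.continuous)
    obtain ⟨s, hs⟩ := isCompact_univ.elim_finite_subcover U hU (fun p _ => by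
      obtain ⟨z, rfl⟩ := v.left.surjective p
      obtain ⟨m, hm⟩ := exists_pt_eq eG (g.left z)
      exact Set.mem_iUnion.2 ⟨m, z, ⟨cp, hm⟩, rfl⟩)
    refine s.finite_toSet.subset fun m ⟨z, hz⟩ => ?_
    obtain ⟨n, hn, w, hw, hvw⟩ := Set.mem_iUnion₂.1 (hs (Set.mem_univ (v.left z)))
    have hw' : g.left w = q n := by
      rw [Set.mem_preimage, range_q eG n] at hw
      exact hw
    rw [hconst w z hvw, hz] at hw'
    have : m = n := by
      refine q_inj eG (Over.OverMorphism.ext ?_)
      exact GoodQuot.section_eq_of_apply_eq (p := G.hom) _ _ (Over.w _) (Over.w _) _ hw'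
    exact this ▸ hn
  have hM : ∀ m ∈ M, m = 1 := fun m hm =>
    hZ m (finite_powers.1 (hfin.subset (Submonoid.powers_le.2 hm)))
  have hone : g = 1 := by
    have h := eq_of_pt_eq eG g 1 fun z => by
      obtain ⟨m, hm⟩ := exists_pt_eq eG (g.left z)
      rw [← hM m ⟨z, hm.symm⟩]
      exact hm.symm
    rw [h, q_one eG hG, MonObj.comp_one]
  rw [hone, MonObj.one_comp] at hg
  exact mul_inv_eq_one.1 hg.symm

end Groth.Agent.ConstExt
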